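import Groth.Prelude.Def_Algz
import Groth.Agent.DimFormula.Scheme
import Groth.Agent.FibDim.Minimal

/-!
# The distance function along morphisms locally of finite type over universally catenary bases
-/

noncomputable section

set_option autoImplicit false

universe u

open AlgebraicGeometry CategoryTheory

namespace Groth.Agent.H9DeltaDim

open Algz DimFormula

theorem codimPt_eq_cd {X : Scheme.{u}} [IsLocallyNoetherian X] {w v : X} (h : w ⤳ v) :
    Algz.codimPt w v h = (cd w v : ℕ∞) := by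
  apply WithBot.coe_injective
  rw [Algz.codimPt, Order.height_eq_krullDim_Iic]
  refine Eq.trans ?_ (coe_cd h)
  refine Order.krullDim_eq_of_orderIso ?_
  exact
    { toFun := fun a => ⟨Specialization.ofEquiv a.1.1, a.1.2, a.2⟩
      invFun := fun a => ⟨⟨Specialization.toEquiv a.1, a.2.1⟩, a.2.2⟩
      left_inv := fun a => rfl
      right_inv := fun a => rfl
      map_rel_iff' := Iff.rfl }

theorem rd_le_of_fibre {X Y : Scheme.{u}} (f : X ⟶ Y) [LocallyOfFiniteType f] (e : ℕ)
    (hfib : ∀ y : Y, topologicalKrullDim ↑(Limits.pullback f (Y.fromSpecResidueField y)) ≤ (e : WithBot ℕ∞))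
    (x : X) : FibDim.rd f x ≤ e := by
  have h1 : topologicalKrullDim ↥(Set.univ ∩ f ⁻¹' {f x}) ≤ (e : WithBot ℕ∞) := by
    rw [Set.univ_inter, ← (f.fiberHomeo (f x)).isHomeomorph.topologicalKrullDim_eq]
    exact hfib (f x)
  rw [FibDim.dim_closed_inter_eq_iSup f _ isClosed_univ] at h1
  have := (le_iSup (fun z : ↥(Set.univ ∩ f ⁻¹' {f x}) => ((FibDim.rd f z.1 : ℕ∞) : WithBot ℕ∞))
    ⟨x, trivial, rfl⟩).trans h1
  exact_mod_cast this

variable {Y Y' : Scheme.{u}} [IsLocallyNoetherian Y] [IsLocallyNoetherian Y'] (f : Y' ⟶ Y)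
  [LocallyOfFiniteType f]

theorem delta_add_le (hY : ∀ y : Y, CAlg.IsUniversallyCatenary (Y.presheaf.stalk y)) {Z : Set Y}
    {y' : Y'} (e t : ℕ) (he : ∀ x : Y', FibDim.rd f x ≤ e) (ht : FibDim.rd f y' = t) {k : ℕ}
    (S : DSystem (f.base ⁻¹' Z) y' k) :
    ∃ T : DSystem Z (f.base y') k, T.delta + t ≤ S.delta + e := by
  let T : DSystem Z (f.base y') k :=
    { v := fun i => f.base (S.v i)
      w := fun i => f.base (S.w i)
      spec := fun i => (S.spec i).map f.base.hom.continuous
      spec_succ := fun i => (S.spec_succ i).map f.base.hom.continuous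
      start_mem := S.start_mem
      last_eq := congrArg f.base S.last_eq }
  refine ⟨T, ?_⟩
  let C : Fin (k + 1) → ℕ := fun j => cd (f (S.w j)) (f (S.v j))
  let C' : Fin (k + 1) → ℕ := fun j => cd (S.w j) (S.v j)
  let B : Fin k → ℕ := fun j => cd (f (S.w j.castSucc)) (f (S.v j.succ))
  let B' : Fin k → ℕ := fun j => cd (S.w j.castSucc) (S.v j.succ)
  have hc : ∀ j, C' j + FibDim.rd f (S.v j) = C j + FibDim.rd f (S.w j) := fun j =>
    (cd_formula f (S.spec j)).2 (hY _)
  have hb : ∀ j, B' j + FibDim.rd f (S.v j.succ) = B j + FibDim.rd f (S.w j.castSucc) := fun j =>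
    (cd_formula f (S.spec_succ j)).2 (hY _)
  let F : Fin (k + 1) → Finset (Fin (k + 1)) := fun i => Finset.univ.filter fun j => i ≤ j
  let G : Fin (k + 1) → Finset (Fin k) := fun i => Finset.univ.filter fun j : Fin k => i.val ≤ j.val
  have key : ∀ i : Fin (k + 1), (∑ j ∈ F i, C j) + (∑ j ∈ G i, B' j) + t =
      (∑ j ∈ F i, C' j) + (∑ j ∈ G i, B j) + FibDim.rd f (S.v i) := by
    intro i
    induction i using Fin.reverseInduction with
    | last =>
      have hF : F (Fin.last k) = {Fin.last k} := by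
        ext j; simp [F, Fin.last_le_iff]
      have hG : G (Fin.last k) = ∅ := by
        ext j; simp [G]
      rw [hF, hG]
      simp only [Finset.sum_singleton, Finset.sum_empty, add_zero]
      have := hc (Fin.last k)
      rw [S.last_eq, ht] at this
      omega
    | cast i ih =>
      have hF : F i.castSucc = insert i.castSucc (F i.succ) := by
        ext j; simp only [F, Finset.mem_filter, Finset.mem_univ, true_and, Finset.mem_insert, Fin.ext_iff, ← Fin.val_fin_le, Fin.val_castSucc, Fin.val_succ]; omega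
      have hG : G i.castSucc = insert i (G i.succ) := by
        ext j; simp [G, Fin.ext_iff]; omega
      have hF' : i.castSucc ∉ F i.succ := by simp only [F, Finset.mem_filter, Finset.mem_univ, true_and, ← Fin.val_fin_le, Fin.val_castSucc, Fin.val_succ]; omega
      have hG' : i ∉ G i.succ := by simp [G]
      rw [hF, hG, Finset.sum_insert hF', Finset.sum_insert hG', Finset.sum_insert hF',
        Finset.sum_insert hG']
      have h1 := hc i.castSucc
      have h2 := hb i
      omega
  have hTc : ∀ j, T.c j = (C j : ℕ∞) := fun j => codimPt_eq_cd _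
  have hTb : ∀ j, T.b j = (B j : ℕ∞) := fun j => codimPt_eq_cd _
  have hSc : ∀ j, S.c j = (C' j : ℕ∞) := fun j => codimPt_eq_cd _
  have hSb : ∀ j, S.b j = (B' j : ℕ∞) := fun j => codimPt_eq_cd _
  rw [DSystem.delta, DSystem.delta, add_assoc, add_assoc]
  refine add_le_add le_rfl ?_
  obtain ⟨i, -, hi⟩ := Finset.exists_mem_eq_sup (Finset.univ : Finset (Fin (k + 1)))
    Finset.univ_nonempty (fun i : Fin (k + 1) => (∑ j ∈ F i, T.c j) - ∑ j ∈ G i, T.b j)
  refine le_trans (le_of_eq (congrArg (· + (t : ℕ∞)) hi)) ?_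
  refine le_trans ?_ (add_le_add (Finset.le_sup
    (f := fun i : Fin (k + 1) => (∑ j ∈ F i, S.c j) - ∑ j ∈ G i, S.b j) (Finset.mem_univ i)) le_rfl)
  simp only [hTc, hTb, hSc, hSb, ← Nat.cast_sum, ← ENat.natCast_sub]
  have := key i
  have := he (S.v i)
  have := he y'
  exact_mod_cast (show (∑ j ∈ F i, C j) - (∑ j ∈ G i, B j) + t ≤
    (∑ j ∈ F i, C' j) - (∑ j ∈ G i, B' j) + e by omega)

theorem deltaZ_add_le (hY : ∀ y : Y, CAlg.IsUniversallyCatenary (Y.presheaf.stalk y)) (Z : Set Y)
    (y' : Y') (e t : ℕ) (he : ∀ x : Y', FibDim.rd f x ≤ e) (ht : FibDim.rd f y' = t) :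
    Algz.deltaZ Z (f.base y') + t ≤ Algz.deltaZ (f.base ⁻¹' Z) y' + e := by
  conv_rhs => rw [Algz.deltaZ]
  simp only [ENat.iInf_add]
  refine le_iInf fun k => le_iInf fun S => ?_
  obtain ⟨T, hT⟩ := delta_add_le f hY e t he ht S
  exact le_trans (add_le_add (iInf_le_of_le k (iInf_le _ T)) le_rfl) hT

end Groth.Agent.H9DeltaDim
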